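import Groth.Agent.KFlatLib.Perfect.Local
import Groth.Agent.MiscSh16.DefoIso
import Groth.Agent.SheafHomX.Smul
import Groth.Prelude.Def_DefoSh2

/-!
# First-order deformations of vector bundles are locally trivial
-/

set_option linter.style.haveILetI false
set_option backward.isDefEq.respectTransparency false
set_option backward.isDefEq.respectTransparency.types false

universe u

open CategoryTheory CategoryTheory.Limits AlgebraicGeometry Opposite ArtFun ArtFun.Art

namespace Groth.Agent.H9DefoSh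

variable {X : Scheme.{u}}

theorem epi_of_stalk_surjective {M N : X.Modules} (φ : M ⟶ N)
    (h : ∀ p : X, Function.Surjective (RefHull.stalkMapₗ φ p)) : Epi φ := ⟨fun {Z} g₁ g₂ hg => by
  refine Scheme.Modules.hom_ext _ _ fun U => ?_
  ext s
  refine TopCat.Presheaf.section_ext (C := AddCommGrpCat.{u}) ⟨Z.presheaf, Z.isSheaf⟩ U _ _ fun x hx => ?_
  change Z.presheaf.germ U x hx (g₁.app U s) = Z.presheaf.germ U x hx (g₂.app U s)
  rw [← RefHull.stalkMapₗ_germ, ← RefHull.stalkMapₗ_germ]
  obtain ⟨m, hm⟩ := h x (N.presheaf.germ U x hx s)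
  rw [← hm, ← DefoSh.stalkMapₗ_comp_apply, ← DefoSh.stalkMapₗ_comp_apply, hg]⟩

theorem restrict_map_smulModΓ {W : X.Opens} {M N : X.Modules} (r : Coh.Γtop X)
    (φ : M.restrict W.ι ⟶ N.restrict W.ι) :
    (Scheme.Modules.restrictFunctor W.ι).map (Formal.smulModΓ M r) ≫ φ =
      φ ≫ (Scheme.Modules.restrictFunctor W.ι).map (Formal.smulModΓ N r) := by
  refine Scheme.Modules.hom_ext _ _ fun V => ?_
  ext s
  change φ.app V ((Formal.smulModΓ M r).app (W.ι ''ᵁ V) s) = (Formal.smulModΓ N r).app (W.ι ''ᵁ V) (φ.app V s)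
  rw [KLin.smulModΓ_app_apply, KLin.smulModΓ_app_apply]
  have hrs : ∀ (P : X.Modules) (t : Γ(X, W.ι ''ᵁ V)) (m : Γ(P.restrict W.ι, V)),
      (show Γ((W : Scheme.{u}), V) from t) • m = t • (show Γ(P, W.ι ''ᵁ V) from m) := fun P t m => by
    have h : (W.ι.appIso V).inv t = t := by rw [Scheme.Opens.ι_appIso]; rfl
    exact congrArg (· • (show Γ(P, W.ι ''ᵁ V) from m)) h
  exact ((congrArg (φ.app V) (hrs M _ s)).symm.trans (φ.app_smul _ s)).trans (hrs N _ _)

variable {k : Type u} [Field k] [X.Over (Spec (CommRingCat.of k))] {E : X.Modules}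

/-- A first-order deformation of a vector bundle is locally trivial. -/
theorem exists_restrict_iso_trivDual (hE : FlatMod.IsFinLocFree E)
    (D : DefoSh.Defo E (Art.dual k k)) (x : X) :
    ∃ (U : X.Opens) (e : D.sheaf.restrict U.ι ≅ (DefoSh.Defo.trivDual k E).sheaf.restrict U.ι), x ∈ U ∧
      e.hom ≫ (Scheme.Modules.restrictFunctor U.ι).map (DefoSh.Defo.trivDual k E).π =
        (Scheme.Modules.restrictFunctor U.ι).map D.π ∧
      ∀ a : Art.dual k k, (Scheme.Modules.restrictFunctor U.ι).map (D.act a) ≫ e.hom =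
        e.hom ≫ (Scheme.Modules.restrictFunctor U.ι).map ((DefoSh.Defo.trivDual k E).act a) := by
  haveI : Epi D.π := epi_of_stalk_surjective _ D.surj
  obtain ⟨W, τ, hx, hτ⟩ := KFlatLib.exists_lift hE D.π (𝟙 E) x
  let R := Scheme.Modules.restrictFunctor W.ι
  have hτ' : τ ≫ R.map D.π = 𝟙 (R.obj E) := hτ.trans (R.map_id E)
  let T := DefoSh.Defo.trivDual k E
  let ε : Art.dual k k := (DualNumber.eps : DualNumber k)
  let dε : D.sheaf ⟶ D.sheaf := D.act ε
  obtain ⟨h, hh⟩ : ∃ h : R.obj T.sheaf ⟶ R.obj D.sheaf,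
      h = R.map (biprod.fst : E ⊞ E ⟶ E) ≫ τ + R.map (biprod.snd : E ⊞ E ⟶ E) ≫ τ ≫ R.map dε := ⟨_, rfl⟩
  have hεπ : dε ≫ D.π = 0 := D.act_π ε rfl
  have hεε : dε ≫ dε = 0 := by
    have h0 : D.act ε * D.act ε = 0 := by
      rw [← map_mul, show ε * ε = 0 from DualNumber.eps_mul_eps, map_zero]
    exact h0
  have hπ : h ≫ R.map D.π = R.map T.π := by
    rw [hh]
    change (_ + _) ≫ _ = R.map (biprod.fst : E ⊞ E ⟶ E)
    rw [Preadditive.add_comp, Category.assoc, hτ', Category.comp_id, Category.assoc, Category.assoc,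
      ← R.map_comp, hεπ, Functor.map_zero, comp_zero, comp_zero, add_zero]
  have hTε : R.map (T.act ε : E ⊞ E ⟶ E ⊞ E) ≫ h = h ≫ R.map dε := by
    change R.map (DefoSh.dualAct k E (DualNumber.eps : DualNumber k) : E ⊞ E ⟶ E ⊞ E) ≫ h = _
    rw [DefoSh.dualAct_eps, hh]
    change _ ≫ (_ + _) = (_ + _) ≫ _
    rw [Preadditive.comp_add, Preadditive.add_comp, ← R.map_comp_assoc, ← R.map_comp_assoc, Category.assoc,
      Category.assoc, biprod.inr_fst, biprod.inr_snd, comp_zero, Category.comp_id, Functor.map_zero, zero_comp,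
      zero_add, Category.assoc, Category.assoc, Category.assoc, ← R.map_comp, hεε, Functor.map_zero, comp_zero,
      comp_zero, add_zero]
  have hsc : ∀ c : k, R.map (T.act (algebraMap k (Art.dual k k) c) : E ⊞ E ⟶ E ⊞ E) ≫ h =
      h ≫ R.map (D.act (algebraMap k (Art.dual k k) c) : D.sheaf ⟶ D.sheaf) := fun c => by
    rw [T.act_algebraMap, D.act_algebraMap]
    exact restrict_map_smulModΓ _ h
  have hact : ∀ a : Art.dual k k, R.map (T.act a : E ⊞ E ⟶ E ⊞ E) ≫ h = h ≫ R.map (D.act a : D.sheaf ⟶ D.sheaf) := by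
    intro a
    have ha : ∀ z : DualNumber k, z = algebraMap k (DualNumber k) z.fst +
        algebraMap k (DualNumber k) z.snd * DualNumber.eps := fun z => by
      ext <;> simp [TrivSqZeroExt.algebraMap_eq_inl]
    obtain ⟨c, d, rfl⟩ : ∃ c d : k, a = algebraMap k (Art.dual k k) c + algebraMap k (Art.dual k k) d * ε :=
      ⟨_, _, ha a⟩
    rw [map_add, map_add, map_mul, map_mul]
    let u₁ : T.sheaf ⟶ T.sheaf := T.act (algebraMap k (Art.dual k k) c)
    let u₂ : T.sheaf ⟶ T.sheaf := T.act (algebraMap k (Art.dual k k) d)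
    let u₃ : T.sheaf ⟶ T.sheaf := T.act ε
    let v₁ : D.sheaf ⟶ D.sheaf := D.act (algebraMap k (Art.dual k k) c)
    let v₂ : D.sheaf ⟶ D.sheaf := D.act (algebraMap k (Art.dual k k) d)
    change R.map (u₁ + u₃ ≫ u₂) ≫ h = h ≫ R.map (v₁ + dε ≫ v₂)
    rw [Functor.map_add, Functor.map_add, Functor.map_comp, Functor.map_comp, Preadditive.add_comp,
      Preadditive.comp_add, Category.assoc, show R.map u₂ ≫ h = h ≫ R.map v₂ from hsc d, ← Category.assoc (R.map u₃),
      show R.map u₃ ≫ h = h ≫ R.map dε from hTε, Category.assoc, show R.map u₁ ≫ h = h ≫ R.map v₁ from hsc c]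
  haveI : IsIso h := by
    refine ZClosLib.isIso_of_stalkMap_bijective h fun w => ?_
    let p : X := W.ι w
    let η := Scheme.Modules.restrictStalkNatIso W.ι w
    letI := T.stalkMod p
    letI := D.stalkMod p
    haveI : Module.Flat (Art.dual k k) (D.sheaf.presheaf.stalk p) := D.flat p
    let F : ↑(T.sheaf.presheaf.stalk p) → ↑(D.sheaf.presheaf.stalk p) := fun v =>
      η.hom.app D.sheaf (((TopCat.Presheaf.stalkFunctor _ w).map ((Scheme.Modules.toPresheaf _).map h))
        (η.inv.app T.sheaf v))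
    have hnat : ∀ {M N : X.Modules} (φ : M ⟶ N) (z),
        RefHull.stalkMapₗ φ p (η.hom.app M z) =
          η.hom.app N (((TopCat.Presheaf.stalkFunctor _ w).map ((Scheme.Modules.toPresheaf _).map (R.map φ))) z) :=
      fun φ z => (congr($(η.hom.naturality φ) z)).symm
    have hinv : ∀ (M : X.Modules) (v), η.hom.app M (η.inv.app M v) = v := fun M v =>
      congr($((η.app M).inv_hom_id) v)
    have hinv' : ∀ (M : X.Modules) (v), η.inv.app M (η.hom.app M v) = v := fun M v =>
      congr($((η.app M).hom_inv_id) v)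
    let f : ↑(T.sheaf.presheaf.stalk p) →ₗ[Art.dual k k] ↑(D.sheaf.presheaf.stalk p) :=
      { toFun := F
        map_add' := fun a b => by simp only [F, map_add]
        map_smul' := fun a v => by
          change F (RefHull.stalkMapₗ (T.act a) p v) = RefHull.stalkMapₗ (D.act a) p (F v)
          simp only [F]
          conv_lhs => rw [← hinv T.sheaf v, hnat, hinv']
          rw [hnat, ← ConcreteCategory.comp_apply, ← Functor.map_comp, ← Functor.map_comp, hact,
            Functor.map_comp, Functor.map_comp, ConcreteCategory.comp_apply] }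
    have hb : Function.Bijective f := MiscSh16.bijective_of_mod_nilpotent (IsLocalRing.maximalIdeal (Art.dual k k))
      (by rw [← IsLocalRing.jacobson_eq_maximalIdeal (⊥ : Ideal (Art.dual k k)) bot_ne_top]
          exact IsArtinianRing.isNilpotent_jacobson_bot)
      f (RefHull.stalkMapₗ T.π p) (RefHull.stalkMapₗ D.π p) (T.surj p)
      (fun v => by
        change RefHull.stalkMapₗ D.π p (F v) = _
        simp only [F]
        rw [hnat, ← ConcreteCategory.comp_apply, ← Functor.map_comp, ← Functor.map_comp, hπ, ← hnat, hinv])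
      (T.ker_le p) (D.ker_le p) (map_zero _) fun a b e => by rw [map_sub, e, sub_self]
    exact ⟨fun a b e => (ConcreteCategory.bijective_of_isIso (η.hom.app T.sheaf)).1
        (hb.1 (show F (η.hom.app T.sheaf a) = F (η.hom.app T.sheaf b) by
          simp only [F, hinv']
          exact congrArg (η.hom.app D.sheaf) e)),
      fun y => by
        obtain ⟨v, hv⟩ := hb.2 (η.hom.app D.sheaf y)
        exact ⟨η.inv.app T.sheaf v, (ConcreteCategory.bijective_of_isIso (η.hom.app D.sheaf)).1 hv⟩⟩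
  refine ⟨W, (asIso h).symm, hx, ?_, fun a => ?_⟩
  · exact (IsIso.inv_comp_eq h).2 hπ.symm
  · change _ ≫ inv h = inv h ≫ _
    rw [IsIso.eq_inv_comp, ← Category.assoc, IsIso.comp_inv_eq]
    exact (hact a).symm

end Groth.Agent.H9DefoSh
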