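import Groth.Agent.H9DefoSh.Conn
import Groth.Agent.H9DefoSh.Local
import Groth.Agent.KFlatLib.Scheme.Tensor
import Groth.Agent.KFlatLib.Perfect.LocFree
import Mathlib.RingTheory.Flat.Basic

/-!
# Deformations of a connection form a torsor
-/

set_option linter.style.haveILetI false
set_option backward.isDefEq.respectTransparency false
set_option backward.isDefEq.respectTransparency.types false

universe u

open CategoryTheory CategoryTheory.Limits AlgebraicGeometry Opposite ArtFun ArtFun.Art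

namespace Groth.Agent.H9DefoSh

open ConnSh KoszTw

variable {k : Type u} [Field k] {X : Scheme.{u}} [X.Over (Spec (CommRingCat.of k))] {E : X.Modules}

/-- In a flat module over the dual numbers the kernel of `ε` is its image. -/
theorem exists_eps_smul {M : Type u} [AddCommGroup M] [Module (DualNumber k) M] [Module.Flat (DualNumber k) M]
    (v : M) (hv : (DualNumber.eps : DualNumber k) • v = 0) : ∃ w, v = (DualNumber.eps : DualNumber k) • w := by
  let f : DualNumber k →ₗ[DualNumber k] DualNumber k := LinearMap.mulLeft (DualNumber k) DualNumber.eps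
  have hf : Function.Exact f f := fun z => ⟨fun hz => ⟨TrivSqZeroExt.inl z.snd, ?_⟩, ?_⟩
  · obtain ⟨w, hw⟩ := (Module.Flat.lTensor_exact M hf (1 • (v ⊗ₜ[DualNumber k] (1 : DualNumber k)))).1 (by
      rw [one_smul, LinearMap.lTensor_tmul, LinearMap.mulLeft_apply, mul_one]
      refine (TensorProduct.rid (DualNumber k) M).injective ?_
      rw [TensorProduct.rid_tmul, map_zero, hv])
    refine ⟨TensorProduct.rid (DualNumber k) M w, ?_⟩
    have key : ∀ z, TensorProduct.rid (DualNumber k) M (f.lTensor M z) =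
        (DualNumber.eps : DualNumber k) • TensorProduct.rid (DualNumber k) M z := fun z => by
      induction z using TensorProduct.induction_on with
      | zero => simp
      | tmul a b => simp [f, mul_smul]
      | add a b ha hb => rw [map_add, map_add, map_add, ha, hb, smul_add]
    rw [← key w, hw, one_smul, TensorProduct.rid_tmul, one_smul]
  · have h : z.fst = 0 := by
      have := congrArg TrivSqZeroExt.snd (show DualNumber.eps * z = (0 : DualNumber k) from hz)
      simpa using this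
    change DualNumber.eps * TrivSqZeroExt.inl z.snd = z
    ext <;> simp [h]
  · rintro ⟨w, rfl⟩
    change DualNumber.eps * (DualNumber.eps * w) = (0 : DualNumber k)
    rw [← mul_assoc, DualNumber.eps_mul_eps, zero_mul]

/-- `ε` as an element of the Artinian algebra. -/
abbrev eps (k : Type u) [Field k] : Art.dual k k := (DualNumber.eps : DualNumber k)

theorem toAbMap_comp {P Q R : X.Modules} (φ : P ⟶ Q) (ψ : Q ⟶ R) :
    toAbMap (φ ≫ ψ) = toAbMap φ ≫ toAbMap ψ := Functor.map_comp _ φ ψ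

theorem toAbMap_add {P Q : X.Modules} (φ ψ : P ⟶ Q) : toAbMap (φ + ψ) = toAbMap φ + toAbMap ψ :=
  Functor.map_add (SheafOfModules.toSheaf X.ringCatSheaf) (f := φ) (g := ψ)

theorem toAbMap_id (P : X.Modules) : toAbMap (𝟙 P) = 𝟙 (Coh.toAb P) := CategoryTheory.Functor.map_id _ P

variable (D : DefoSh.Defo E (Art.dual k k)) (ι : E ⟶ D.sheaf)

/-- The extension attached to a first-order deformation. -/
theorem shortExact_of_eps (hι : D.π ≫ ι = D.act (DualNumber.eps : DualNumber k)) :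
    ∃ w : ι ≫ D.π = 0, (ShortComplex.mk ι D.π w).ShortExact := by
  haveI : Epi D.π := epi_of_stalk_surjective _ D.surj
  let ε : Art.dual k k := (DualNumber.eps : DualNumber k)
  have w : ι ≫ D.π = 0 := by
    rw [← cancel_epi D.π, ← Category.assoc, hι, comp_zero]
    exact D.act_π ε rfl
  refine ⟨w, (KFlatLib.shortExact_iff_stalk _).2 fun p => ?_⟩
  letI := D.stalkMod p
  haveI : Module.Flat (Art.dual k k) (D.sheaf.presheaf.stalk p) := D.flat p
  have hεv : ∀ v, ε • v = RefHull.stalkMapₗ ι p (RefHull.stalkMapₗ D.π p v) := fun v => by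
    rw [← DefoSh.stalkMapₗ_comp_apply, hι]
    rfl
  have hex : ∀ v : D.sheaf.presheaf.stalk p, RefHull.stalkMapₗ D.π p v = 0 →
      ∃ e, RefHull.stalkMapₗ ι p e = v := by
    intro v hv
    have hmem : v ∈ IsLocalRing.maximalIdeal (Art.dual k k) • (⊤ : Submodule (Art.dual k k) _) := D.ker_le p v hv
    clear hv
    refine Submodule.smul_induction_on hmem (fun a ha m _ => ?_) (fun a b ha hb => ?_)
    · obtain ⟨b, rfl⟩ : ∃ b : Art.dual k k, a = b * ε := by
        rw [Art.mem_maximalIdeal_iff] at ha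
        refine ⟨(TrivSqZeroExt.inl (a : DualNumber k).snd : DualNumber k), ?_⟩
        have hz : ∀ z : DualNumber k, z.fst = 0 → z = TrivSqZeroExt.inl z.snd * DualNumber.eps := fun z hz => by
          refine TrivSqZeroExt.ext ?_ ?_
          · simp [hz]
          · simp
        exact hz _ ha
      rw [mul_comm, mul_smul, hεv]
      exact ⟨_, rfl⟩
    · obtain ⟨x, hx⟩ := ha
      obtain ⟨y, hy⟩ := hb
      exact ⟨x + y, (map_add _ _ _).trans (congrArg₂ (· + ·) hx hy)⟩
  refine ShortComplex.ShortExact.mk' ?_ ?_ ?_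
  · rw [ShortComplex.ShortExact.moduleCat_exact_iff_function_exact]
    intro v
    refine ⟨fun hv => hex v hv, ?_⟩
    · rintro ⟨e, rfl⟩
      change RefHull.stalkMapₗ D.π p (RefHull.stalkMapₗ ι p e) = 0
      rw [← DefoSh.stalkMapₗ_comp_apply, w, DefoSh.stalkMapₗ_zero_apply]
  · rw [ModuleCat.mono_iff_injective]
    change Function.Injective (RefHull.stalkMapₗ ι p)
    rw [injective_iff_map_eq_zero]
    intro e he
    obtain ⟨v, rfl⟩ := D.surj p e
    letI : Module (DualNumber k) (D.sheaf.presheaf.stalk p) := D.stalkMod p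
    haveI : Module.Flat (DualNumber k) (D.sheaf.presheaf.stalk p) := D.flat p
    obtain ⟨u, hu⟩ := exists_eps_smul (k := k) v ((hεv v).trans he)
    rw [show v = RefHull.stalkMapₗ ι p (RefHull.stalkMapₗ D.π p u) from hu.trans (hεv u),
      ← DefoSh.stalkMapₗ_comp_apply, ← DefoSh.stalkMapₗ_comp_apply, w, comp_zero, DefoSh.stalkMapₗ_zero_apply]
  · rw [ModuleCat.epi_iff_surjective]
    exact D.surj p

variable {Ω' : X.Modules}

/-- `(- ⊗ Ω')` keeps the extension exact. -/
theorem shortExact_tensor (hE : FlatMod.IsFinLocFree E) {S : ShortComplex X.Modules} (hS : S.ShortExact)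
    (h₃ : S.X₃ = E) : (S.map (DCoh.tensorBi.flip.obj Ω')).ShortExact :=
  ShortComplex.shortExact_of_iso (S.mapNatIso ((KFlatLib.tensorBiFlipIso X).app Ω')).symm
    (KFlatLib.shortExact_tensor_of_isFlat Ω' hS (h₃ ▸ KFlatLib.isFlat_of_isFinLocFree hE))

theorem flip_map {M M' : X.Modules} (φ : M ⟶ M') :
    (DCoh.tensorBi.flip.obj Ω').map φ = tensorMap φ (𝟙 Ω') :=
  ((congrArg (fun z => (DCoh.tensorBi.map φ).app Ω' ≫ z) ((DCoh.tensorBi.obj M').map_id Ω')).trans
    (Category.comp_id _)).symm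

omit [X.Over (Spec (CommRingCat.of k))] in
theorem toAb_ext {M N : X.Modules} {f g : Coh.toAb M ⟶ Coh.toAb N}
    (h : ∀ (U : X.Opens) (e : M.val.obj (op U)), secApp f U e = secApp g U e) : f = g := by
  refine Sheaf.hom_ext (NatTrans.ext (funext fun U => ?_))
  ext e
  exact h U.unop e

omit [X.Over (Spec (CommRingCat.of k))] in
theorem horizontal_iff {M M' : X.Modules} {c : Coh.toAb M ⟶ Coh.toAb (CohB1.tensorMod M Ω')}
    {c' : Coh.toAb M' ⟶ Coh.toAb (CohB1.tensorMod M' Ω')} (φ : M ⟶ M') :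
    IsHorizontal c c' φ ↔ toAbMap φ ≫ c' = c ≫ toAbMap (tensorMap φ (𝟙 Ω')) :=
  ⟨fun h => toAb_ext fun U e => h U e, fun h U e => congrArg (fun z => secApp z U e) h⟩

omit [X.Over (Spec (CommRingCat.of k))] in
/-- An additive map linear on sections is a morphism of modules. -/
theorem exists_toAbMap_eq {M N : X.Modules} (f : Coh.toAb M ⟶ Coh.toAb N)
    (hf : ∀ (U : X.Opens) (t : Γ(X, U)) (e : M.val.obj (op U)), secApp f U (t • e) = t • secApp f U e) :
    ∃ φ : M ⟶ N, toAbMap φ = f :=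
  ⟨⟨PresheafOfModules.homMk f.hom (fun U r m => hf U.unop r m)⟩, toAb_ext fun _ _ => rfl⟩

variable {δ : OmegaSh.Der (X ↘ Spec (CommRingCat.of k)) Ω'}
  {nabla : Coh.toAb E ⟶ Coh.toAb (CohB1.tensorMod E Ω')}

/-- A connection on a first-order deformation commuting with `ε` commutes with all coefficients. -/
theorem isHorizontal_act {c : Coh.toAb D.sheaf ⟶ Coh.toAb (CohB1.tensorMod D.sheaf Ω')}
    (hc : IsConn δ D.sheaf c) (hε : IsHorizontal c c (D.act (DualNumber.eps : DualNumber k)))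
    (a : Art.dual k k) : IsHorizontal c c (D.act a) := by
  have ha : ∀ z : DualNumber k, z = algebraMap k (DualNumber k) z.fst + z.snd • DualNumber.eps := fun z => by
    ext <;> simp [TrivSqZeroExt.algebraMap_eq_inl]
  obtain ⟨r, s, rfl⟩ : ∃ (r s : k),
      a = algebraMap k (Art.dual k k) r + s • eps k := ⟨_, _, ha a⟩
  rw [map_add, map_smul, AlgHom.commutes, Algebra.algebraMap_eq_smul_one]
  exact isHorizontal_add (isHorizontal_smul δ hc r (DefoSh.isHorizontal_id c)) (isHorizontal_smul δ hc s hε)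

variable (hE : FlatMod.IsFinLocFree E) (hι : D.π ≫ ι = D.act (DualNumber.eps : DualNumber k))

include hE hι in
theorem mono_tensorMap_ι : Mono (tensorMap ι (𝟙 Ω')) := by
  obtain ⟨w, hS⟩ := shortExact_of_eps D ι hι
  haveI := (shortExact_tensor (Ω' := Ω') hE hS rfl).mono_f
  rw [← flip_map]
  exact this

include hι in
theorem eps_tensorMap : tensorMap ι (𝟙 Ω') ≫ tensorMap D.π (𝟙 Ω') = 0 := by
  obtain ⟨w, -⟩ := shortExact_of_eps D ι hι
  rw [← tensorMap_comp, w, Category.comp_id]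
  have h := tensorMap_add (N := Ω') (0 : E ⟶ E) 0
  rw [add_zero] at h
  exact left_eq_add.1 h

include hE hι in
/-- The difference of two deformed connections. -/
theorem exists_diff (c c₀ : DefoSh.DefoConn δ nabla D) :
    ∃ φ : E ⟶ CohB1.tensorMod E Ω', c.conn - c₀.conn = toAbMap (D.π ≫ φ ≫ tensorMap ι (𝟙 Ω')) := by
  obtain ⟨w, hS⟩ := shortExact_of_eps D ι hι
  have hT := shortExact_tensor (Ω' := Ω') hE hS rfl
  haveI := mono_tensorMap_ι (Ω' := Ω') D ι hE hι
  obtain ⟨d, hd⟩ := exists_toAbMap_eq (c.conn - c₀.conn) fun U t e => by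
    change secApp c.conn U (t • e) - secApp c₀.conn U (t • e) = t • (secApp c.conn U e - secApp c₀.conn U e)
    rw [c.isConn, c₀.isConn, smul_sub]
    exact add_sub_add_right_eq_sub _ _ _
  have hdπ : d ≫ tensorMap D.π (𝟙 Ω') = 0 := by
    apply (SheafOfModules.toSheaf X.ringCatSheaf).map_injective
    rw [Functor.map_comp, Functor.map_zero]
    change toAbMap d ≫ toAbMap _ = 0
    rw [hd, Preadditive.sub_comp, ← (horizontal_iff D.π).1 c.π_horizontal, ← (horizontal_iff D.π).1 c₀.π_horizontal,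
      sub_self]
  let ε : Art.dual k k := (DualNumber.eps : DualNumber k)
  have hεh : ∀ c : DefoSh.DefoConn δ nabla D, toAbMap (D.π ≫ ι) ≫ c.conn = c.conn ≫ toAbMap (tensorMap (D.π ≫ ι) (𝟙 Ω')) :=
    fun c => by
      rw [hι]
      exact (horizontal_iff _).1 (c.act_horizontal ε)
  have hdε : (D.π ≫ ι) ≫ d = d ≫ tensorMap (D.π ≫ ι) (𝟙 Ω') := by
    apply (SheafOfModules.toSheaf X.ringCatSheaf).map_injective
    rw [Functor.map_comp _ (D.π ≫ ι), Functor.map_comp _ d]
    change toAbMap _ ≫ toAbMap d = toAbMap d ≫ toAbMap _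
    rw [hd, Preadditive.comp_sub, Preadditive.sub_comp, hεh, hεh]
  rw [show tensorMap (D.π ≫ ι) (𝟙 Ω') = tensorMap D.π (𝟙 Ω') ≫ tensorMap ι (𝟙 Ω') from by
    rw [← tensorMap_comp, Category.comp_id], ← Category.assoc d, hdπ, zero_comp] at hdε
  haveI : Epi D.π := hS.epi_g
  have hιd : ι ≫ d = 0 := by
    rw [← cancel_epi D.π, comp_zero, ← Category.assoc, hdε]
  obtain ⟨g, hg⟩ : ∃ g : D.sheaf ⟶ CohB1.tensorMod E Ω', g ≫ tensorMap ι (𝟙 Ω') = d := by
    haveI := hT.mono_f
    refine ⟨hT.exact.lift d ?_, ?_⟩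
    · change d ≫ (DCoh.tensorBi.flip.obj Ω').map D.π = 0
      rw [flip_map, hdπ]
    · exact (congrArg (fun z => _ ≫ z) (flip_map ι)).symm.trans (hT.exact.lift_f d _)
  have hιg : ι ≫ g = 0 := by
    rw [← cancel_mono (tensorMap ι (𝟙 Ω')), Category.assoc, hg, hιd, zero_comp]
  haveI := hS.epi_g
  obtain ⟨φ, hφ⟩ : ∃ φ : E ⟶ CohB1.tensorMod E Ω', D.π ≫ φ = g := ⟨hS.exact.desc g hιg, hS.exact.g_desc g hιg⟩
  exact ⟨φ, by rw [← Category.assoc, hφ, hg, hd]⟩

include hι in
/-- Translating a deformed connection. -/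
theorem exists_translate (c₀ : DefoSh.DefoConn δ nabla D) (φ : E ⟶ CohB1.tensorMod E Ω') :
    ∃ c : DefoSh.DefoConn δ nabla D, c.conn - c₀.conn = toAbMap (D.π ≫ φ ≫ tensorMap ι (𝟙 Ω')) := by
  obtain ⟨w, -⟩ := shortExact_of_eps D ι hι
  let ψ := D.π ≫ φ ≫ tensorMap ι (𝟙 Ω')
  let conn := c₀.conn + toAbMap ψ
  have hconn : IsConn δ D.sheaf conn := fun U t e => by
    have hl : secApp (toAbMap ψ) U (t • e) = t • secApp (toAbMap ψ) U e := ψ.app_smul t e
    change secApp c₀.conn U (t • e) + secApp (toAbMap ψ) U (t • e) = t • (secApp c₀.conn U e + secApp (toAbMap ψ) U e) + _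
    rw [c₀.isConn, hl, smul_add]
    exact add_right_comm _ _ _
  have hψπ : ψ ≫ tensorMap D.π (𝟙 Ω') = 0 := by
    simp only [ψ, Category.assoc, eps_tensorMap D ι hι, comp_zero]
  have hπh : IsHorizontal conn nabla D.π := by
    rw [horizontal_iff, (horizontal_iff D.π).1 c₀.π_horizontal, Preadditive.add_comp]
    have : toAbMap ψ ≫ toAbMap (tensorMap D.π (𝟙 Ω')) = 0 := by
      rw [← Functor.map_comp, hψπ, Functor.map_zero]
    rw [this, add_zero]
  have hεh : IsHorizontal conn conn (D.act (DualNumber.eps : DualNumber k)) := by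
    have h0 := c₀.act_horizontal (DualNumber.eps : DualNumber k)
    rw [horizontal_iff] at h0 ⊢
    rw [← hι] at h0 ⊢
    rw [Preadditive.add_comp, Preadditive.comp_add, h0]
    refine congrArg₂ (· + ·) rfl ?_
    rw [← Functor.map_comp, ← Functor.map_comp]
    refine congrArg _ ?_
    rw [show tensorMap (D.π ≫ ι) (𝟙 Ω') = tensorMap D.π (𝟙 Ω') ≫ tensorMap ι (𝟙 Ω') from by
      rw [← tensorMap_comp, Category.comp_id], ← Category.assoc ψ, hψπ, zero_comp]
    simp only [ψ, Category.assoc]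
    rw [reassoc_of% w, zero_comp, comp_zero]
  exact ⟨⟨conn, hconn, isHorizontal_act D hconn hεh, hπh⟩, add_sub_cancel_left _ _⟩

include hE hι in
theorem diff_injective (φ φ' : E ⟶ CohB1.tensorMod E Ω')
    (h : toAbMap (D.π ≫ φ ≫ tensorMap ι (𝟙 Ω')) = toAbMap (D.π ≫ φ' ≫ tensorMap ι (𝟙 Ω'))) : φ = φ' := by
  haveI := mono_tensorMap_ι (Ω' := Ω') D ι hE hι
  haveI : Epi D.π := epi_of_stalk_surjective _ D.surj
  have h1 := (cancel_epi D.π).1 ((SheafOfModules.toSheaf X.ringCatSheaf).map_injective h)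
  exact (cancel_mono (tensorMap ι (𝟙 Ω'))).1 h1

omit [X.Over (Spec (CommRingCat.of k))] in
theorem defoConn_ext {k : Type u} [Field k] [X.Over (Spec (CommRingCat.of k))]
    {δ : OmegaSh.Der (X ↘ Spec (CommRingCat.of k)) Ω'} {E : X.Modules}
    {nabla : Coh.toAb E ⟶ Coh.toAb (CohB1.tensorMod E Ω')} {A : Art k k} {D : DefoSh.Defo E A}
    {c c' : DefoSh.DefoConn δ nabla D} (h : c.conn = c'.conn) : c = c' := by
  cases c; cases c'; cases h; rfl

include hE hι in
theorem exists_equiv_hom (c₀ : DefoSh.DefoConn δ nabla D) :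
    ∃ Φ : DefoSh.DefoConn δ nabla D ≃ (E ⟶ CohB1.tensorMod E Ω'),
      ∀ c : DefoSh.DefoConn δ nabla D,
        c.conn - c₀.conn = toAbMap (D.π ≫ Φ c ≫ tensorMap ι (𝟙 Ω')) := by
  choose Φ hΦ using fun c => exists_diff D ι hE hι c c₀
  refine ⟨Equiv.ofBijective Φ ⟨fun c c' h => ?_, fun φ => ?_⟩, hΦ⟩
  · exact defoConn_ext (sub_left_injective ((hΦ c).trans ((h ▸ rfl : _ = _).trans (hΦ c').symm)))
  · obtain ⟨c, hc⟩ := exists_translate D ι hι c₀ φ
    exact ⟨c, diff_injective D ι hE hι _ _ ((hΦ c).symm.trans hc)⟩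

include hE hι in
/-- Transport equivalence is given by endomorphisms of `E`. -/
theorem transport_iff (c c' : DefoSh.DefoConn δ nabla D) :
    DefoSh.DefoConn.Transport c c' ↔ ∃ S : E ⟶ E,
      c'.conn - c.conn = toAbMap D.π ≫
        (nabla ≫ toAbMap (tensorMap S (𝟙 Ω')) - toAbMap S ≫ nabla) ≫ toAbMap (tensorMap ι (𝟙 Ω')) := by
  obtain ⟨w, hS⟩ := shortExact_of_eps D ι hι
  haveI := hS.mono_f
  haveI := hS.epi_g
  haveI : Epi D.π := hS.epi_g
  haveI : Mono ι := hS.mono_f
  haveI : Epi (toAbMap D.π) := (inferInstance : Epi ((KFlatLib.toAb X).map D.π))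
  have hιh : toAbMap ι ≫ c'.conn = nabla ≫ toAbMap (tensorMap ι (𝟙 Ω')) := by
    have h0 := (horizontal_iff _).1 (c'.act_horizontal (DualNumber.eps : DualNumber k))
    rw [← hι, show tensorMap (D.π ≫ ι) (𝟙 Ω') = tensorMap D.π (𝟙 Ω') ≫ tensorMap ι (𝟙 Ω') from by
      rw [← tensorMap_comp, Category.comp_id], toAbMap_comp, toAbMap_comp, ← Category.assoc c'.conn,
      ← (horizontal_iff D.π).1 c'.π_horizontal, Category.assoc, Category.assoc] at h0
    exact (cancel_epi (toAbMap D.π)).1 h0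
  have key : ∀ S : E ⟶ E, IsHorizontal c.conn c'.conn (𝟙 D.sheaf + D.π ≫ S ≫ ι) ↔
      c'.conn - c.conn = toAbMap D.π ≫
        (nabla ≫ toAbMap (tensorMap S (𝟙 Ω')) - toAbMap S ≫ nabla) ≫ toAbMap (tensorMap ι (𝟙 Ω')) := by
    intro S
    rw [horizontal_iff]
    have h1 : toAbMap (𝟙 D.sheaf + D.π ≫ S ≫ ι) ≫ c'.conn =
        c'.conn + toAbMap D.π ≫ toAbMap S ≫ nabla ≫ toAbMap (tensorMap ι (𝟙 Ω')) := by
      rw [toAbMap_add, toAbMap_id, Preadditive.add_comp, Category.id_comp, toAbMap_comp,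
        toAbMap_comp, Category.assoc, Category.assoc, hιh]
    have h2 : c.conn ≫ toAbMap (tensorMap (𝟙 D.sheaf + D.π ≫ S ≫ ι) (𝟙 Ω')) =
        c.conn + toAbMap D.π ≫ nabla ≫ toAbMap (tensorMap S (𝟙 Ω')) ≫ toAbMap (tensorMap ι (𝟙 Ω')) := by
      rw [tensorMap_add, tensorMap_id, toAbMap_add, toAbMap_id, Preadditive.comp_add]
      refine congrArg₂ (· + ·) (Category.comp_id _) ?_
      rw [show tensorMap (D.π ≫ S ≫ ι) (𝟙 Ω') = tensorMap D.π (𝟙 Ω') ≫ tensorMap S (𝟙 Ω') ≫ tensorMap ι (𝟙 Ω') from by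
        rw [← tensorMap_comp, ← tensorMap_comp, Category.comp_id, Category.comp_id], toAbMap_comp,
        toAbMap_comp, ← Category.assoc c.conn, ← (horizontal_iff D.π).1 c.π_horizontal, Category.assoc]
    rw [h1, h2, Preadditive.sub_comp, Preadditive.comp_sub, Category.assoc, Category.assoc]
    rw [sub_eq_sub_iff_add_eq_add, add_comm c.conn]
  constructor
  · rintro ⟨e, he⟩
    have hg : (e.iso.hom - 𝟙 D.sheaf) ≫ D.π = 0 := by
      rw [Preadditive.sub_comp, e.hom_π, Category.id_comp, sub_self]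
    obtain ⟨g, hgι⟩ : ∃ g : D.sheaf ⟶ E, g ≫ ι = e.iso.hom - 𝟙 D.sheaf :=
      ⟨hS.exact.lift _ hg, hS.exact.lift_f _ hg⟩
    have hιg : ι ≫ g = 0 := by
      rw [← cancel_epi D.π, ← cancel_mono ι, comp_zero, zero_comp]
      have h0 := e.act_hom (DualNumber.eps : DualNumber k)
      rw [← hι] at h0
      rw [Category.assoc, Category.assoc, hgι, ← Category.assoc, Preadditive.comp_sub, Category.comp_id, h0,
        show e.iso.hom ≫ D.π ≫ ι = (e.iso.hom ≫ D.π) ≫ ι from (Category.assoc _ _ _).symm, e.hom_π, sub_self]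
    obtain ⟨S, hS'⟩ : ∃ S : E ⟶ E, D.π ≫ S = g := ⟨hS.exact.desc g hιg, hS.exact.g_desc g hιg⟩
    refine ⟨S, (key S).1 ?_⟩
    rwa [← Category.assoc, hS', hgι, add_sub_cancel]
  · rintro ⟨S, hS'⟩
    let n : D.sheaf ⟶ D.sheaf := D.π ≫ S ≫ ι
    have hnn : n ≫ n = 0 := by
      simp only [n, Category.assoc]
      rw [reassoc_of% w, zero_comp, comp_zero, comp_zero]
    let e : D.sheaf ≅ D.sheaf :=
      { hom := 𝟙 _ + n
        inv := 𝟙 _ - n
        hom_inv_id := by simp [hnn]
        inv_hom_id := by simp [hnn] }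
    have hεn : (D.π ≫ ι) ≫ n = n ≫ D.π ≫ ι := by
      simp only [n, Category.assoc]
      rw [reassoc_of% w, reassoc_of% w]
      simp
    have hact : ∀ a : Art.dual k k, (D.act a : D.sheaf ⟶ D.sheaf) ≫ n = n ≫ D.act a := by
      intro a
      have ha : ∀ z : DualNumber k, z = algebraMap k (DualNumber k) z.fst + z.snd • DualNumber.eps := fun z => by
        ext <;> simp [TrivSqZeroExt.algebraMap_eq_inl]
      obtain ⟨r, s, rfl⟩ : ∃ (r s : k),
          a = algebraMap k (Art.dual k k) r + s • eps k := ⟨_, _, ha a⟩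
      rw [map_add, map_smul, AlgHom.commutes, Algebra.algebraMap_eq_smul_one]
      let u : D.sheaf ⟶ D.sheaf := D.act (eps k)
      change ((r • 𝟙 D.sheaf + s • u : D.sheaf ⟶ D.sheaf)) ≫ n =
        n ≫ ((r • 𝟙 D.sheaf + s • u : D.sheaf ⟶ D.sheaf))
      rw [show u = D.π ≫ ι from hι.symm, Preadditive.add_comp, Preadditive.comp_add, Linear.smul_comp, Linear.smul_comp, Linear.comp_smul,
        Linear.comp_smul, Category.id_comp, Category.comp_id, hεn]
    refine ⟨⟨e, fun a => ?_, ?_⟩, (key S).2 hS'⟩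
    · change _ ≫ (𝟙 _ + n) = (𝟙 _ + n) ≫ _
      rw [Preadditive.comp_add, Preadditive.add_comp, hact, Category.comp_id, Category.id_comp]
    · change (𝟙 _ + n) ≫ D.π = D.π
      rw [Preadditive.add_comp, Category.id_comp]
      simp only [n, Category.assoc, w, comp_zero, add_zero]

end Groth.Agent.H9DefoSh
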