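import Groth.Agent.SheafHomX.Smul
import Groth.Prelude.Def_DefoConn
import Groth.Prelude.Def_DefoSh2

/-!
# The trivial deformation of a connection
-/

set_option linter.style.haveILetI false
set_option backward.isDefEq.respectTransparency false
set_option backward.isDefEq.respectTransparency.types false

universe u

open CategoryTheory CategoryTheory.Limits AlgebraicGeometry Opposite TensorProduct

namespace Groth.Agent.H9DefoSh

open SecTwist ConnSh KoszTw

variable {X : Scheme.{u}} {M N M' : X.Modules}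

theorem tmul_add_left (U : X.Opens) (a b : M.val.obj (op U)) (n : N.val.obj (op U)) :
    tmul M N U (a + b) n = tmul M N U a n + tmul M N U b n :=
  (congrArg ((toTensor M N).app (op U)).hom (add_tmul a b n)).trans (map_add _ _ _)

theorem tmul_smul_left (U : X.Opens) (t : Γ(X, U)) (a : M.val.obj (op U)) (n : N.val.obj (op U)) :
    tmul M N U (t • a) n = t • tmul M N U a n :=
  QCoh.tmS_smul_left M N t a n

theorem tensorMap_add (φ ψ : M ⟶ M') : tensorMap (φ + ψ) (𝟙 N) = tensorMap φ (𝟙 N) + tensorMap ψ (𝟙 N) :=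
  SheafHomX.tensor_hom_ext fun U s t => by
    change (tensorMap (φ + ψ) (𝟙 N)).app U (tmul M N U s t) = (tensorMap φ (𝟙 N) + tensorMap ψ (𝟙 N)).app U (tmul M N U s t)
    rw [tensorMap_tmul, Scheme.Modules.Hom.add_app, Scheme.Modules.Hom.add_app]
    change tmul M' N U (φ.app U s + ψ.app U s) _ = (tensorMap φ (𝟙 N)).app U (tmul M N U s t) + (tensorMap ψ (𝟙 N)).app U (tmul M N U s t)
    rw [tmul_add_left, tensorMap_tmul, tensorMap_tmul]

section Over

variable {k : Type u} [Field k] [X.Over (Spec (CommRingCat.of k))]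

/-- The local function of a scalar. -/
noncomputable abbrev res (U : X.Opens) (c : k) : Γ(X, U) :=
  X.presheaf.map (homOfLE (le_top : U ≤ ⊤)).op (Coh.toGlobal (X ↘ Spec (CommRingCat.of k)) c)

theorem tensorMap_smul (c : k) (φ : M ⟶ M') : tensorMap (c • φ) (𝟙 N) = c • tensorMap φ (𝟙 N) :=
  SheafHomX.tensor_hom_ext fun U s t => by
    change (tensorMap (c • φ) (𝟙 N)).app U (tmul M N U s t) = (c • tensorMap φ (𝟙 N)).app U (tmul M N U s t)
    rw [tensorMap_tmul, KLin.smul_app_apply, KLin.smul_app_apply, tensorMap_tmul]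
    exact tmul_smul_left U _ _ _

variable {Ω' : X.Modules} (δ : OmegaSh.Der (X ↘ Spec (CommRingCat.of k)) Ω')

theorem der_res (U : X.Opens) (c : k) : δ.app U (res U c) = 0 := by
  have h0 : δ.d (X := op ⊤) (Coh.toGlobal (X ↘ Spec (CommRingCat.of k)) c) = 0 :=
    δ.d_app (X := op ⊤) ((Scheme.ΓSpecIso (CommRingCat.of k)).inv c)
  change δ.d (X := op U) (X.presheaf.map (homOfLE (le_top : U ≤ ⊤)).op _) = 0
  rw [δ.d_map, h0]
  exact map_zero _

variable {E E' : X.Modules} {c : Coh.toAb E ⟶ Coh.toAb (CohB1.tensorMod E Ω')}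
  {c' : Coh.toAb E' ⟶ Coh.toAb (CohB1.tensorMod E' Ω')}

omit [X.Over (Spec (CommRingCat.of k))] in
theorem isHorizontal_add {φ ψ : E ⟶ E'} (hφ : IsHorizontal c c' φ) (hψ : IsHorizontal c c' ψ) :
    IsHorizontal c c' (φ + ψ) := fun U e => by
  rw [tensorMap_add, Scheme.Modules.Hom.add_app, Scheme.Modules.Hom.add_app]
  change secApp c' U (φ.app U e + ψ.app U e) = (tensorMap φ (𝟙 Ω')).app U (secApp c U e) + (tensorMap ψ (𝟙 Ω')).app U (secApp c U e)
  rw [map_add, hφ, hψ]

theorem isHorizontal_smul (hc' : IsConn δ E' c') (a : k) {φ : E ⟶ E'} (hφ : IsHorizontal c c' φ) :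
    IsHorizontal c c' (a • φ) := fun U e => by
  rw [tensorMap_smul, KLin.smul_app_apply, KLin.smul_app_apply]
  refine (hc' U (res U a) (φ.app U e)).trans ?_
  rw [der_res, hφ]
  have h0 : tmul E' Ω' U (φ.app U e) 0 = 0 :=
    (congrArg ((toTensor E' Ω').app (op U)).hom (tmul_zero _ _)).trans (map_zero _)
  rw [h0, add_zero]

end Over

section Sum

variable {k : Type u} [Field k] [X.Over (Spec (CommRingCat.of k))] {Ω' : X.Modules}
  {δ : OmegaSh.Der (X ↘ Spec (CommRingCat.of k)) Ω'} {E : X.Modules}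
  (nabla : Coh.toAb E ⟶ Coh.toAb (CohB1.tensorMod E Ω'))

/-- The functor to abelian sheaves on a morphism. -/
noncomputable abbrev toAbMap {P Q : X.Modules} (φ : P ⟶ Q) : Coh.toAb P ⟶ Coh.toAb Q :=
  (SheafOfModules.toSheaf X.ringCatSheaf).map φ

/-- The sum connection. -/
noncomputable def sumConn : Coh.toAb (E ⊞ E) ⟶ Coh.toAb (CohB1.tensorMod (E ⊞ E) Ω') :=
  toAbMap biprod.fst ≫ nabla ≫ toAbMap (tensorMap biprod.inl (𝟙 Ω')) +
    toAbMap biprod.snd ≫ nabla ≫ toAbMap (tensorMap biprod.inr (𝟙 Ω'))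

theorem sumConn_apply (U : X.Opens) (e : (E ⊞ E).val.obj (op U)) :
    secApp (sumConn nabla) U e =
      (tensorMap (biprod.inl : E ⟶ E ⊞ E) (𝟙 Ω')).app U (secApp nabla U ((biprod.fst : E ⊞ E ⟶ E).app U e)) +
        (tensorMap (biprod.inr : E ⟶ E ⊞ E) (𝟙 Ω')).app U (secApp nabla U ((biprod.snd : E ⊞ E ⟶ E).app U e)) :=
  rfl

theorem isConn_sumConn (hn : IsConn δ E nabla) : IsConn δ (E ⊞ E) (sumConn nabla) := fun U t e => by
  rw [sumConn_apply, sumConn_apply, Scheme.Modules.Hom.app_smul, Scheme.Modules.Hom.app_smul, hn, hn, map_add,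
    map_add, Scheme.Modules.Hom.app_smul, Scheme.Modules.Hom.app_smul, tensorMap_tmul, tensorMap_tmul, smul_add]
  have h : tmul (E ⊞ E) Ω' U e (δ.app U t) =
      tmul (E ⊞ E) Ω' U ((biprod.inl : E ⟶ E ⊞ E).app U ((biprod.fst : E ⊞ E ⟶ E).app U e)) (δ.app U t) +
        tmul (E ⊞ E) Ω' U ((biprod.inr : E ⟶ E ⊞ E).app U ((biprod.snd : E ⊞ E ⟶ E).app U e)) (δ.app U t) := by
    rw [← tmul_add_left]
    refine congrArg (fun z => tmul (E ⊞ E) Ω' U z _) ?_
    have h0 := congr(($(biprod.total (X := E) (Y := E))).app U e)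
    exact h0.symm
  rw [h]
  change _ + _ + (_ + _) = _
  rw [Scheme.Modules.Hom.id_app]
  exact add_add_add_comm _ _ _ _

theorem isHorizontal_fst : IsHorizontal (sumConn nabla) nabla (biprod.fst : E ⊞ E ⟶ E) := fun U e => by
  rw [sumConn_apply, map_add, ← ConcreteCategory.comp_apply, ← Scheme.Modules.Hom.comp_app, ← tensorMap_comp,
    ← ConcreteCategory.comp_apply, ← Scheme.Modules.Hom.comp_app, ← tensorMap_comp, biprod.inl_fst, biprod.inr_fst,
    Category.id_comp, tensorMap_id, Scheme.Modules.Hom.id_app]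
  have h0 : tensorMap (0 : E ⟶ E) (𝟙 Ω') = 0 := by
    have h := tensorMap_add (N := Ω') (0 : E ⟶ E) 0
    rw [add_zero] at h
    exact left_eq_add.1 h
  rw [h0, Scheme.Modules.Hom.zero_app]
  exact (add_zero _).symm

theorem isHorizontal_inr : IsHorizontal nabla (sumConn nabla) (biprod.inr : E ⟶ E ⊞ E) := fun U e => by
  rw [sumConn_apply, ← ConcreteCategory.comp_apply, ← Scheme.Modules.Hom.comp_app,
    ← ConcreteCategory.comp_apply, ← Scheme.Modules.Hom.comp_app, biprod.inr_fst, biprod.inr_snd,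
    Scheme.Modules.Hom.zero_app, Scheme.Modules.Hom.id_app]
  change (tensorMap _ _).app U (secApp nabla U 0) + _ = _
  rw [map_zero, map_zero, zero_add]
  rfl

theorem nonempty_defoConn_trivDual (hn : IsConn δ E nabla) :
    Nonempty (DefoSh.DefoConn δ nabla (DefoSh.Defo.trivDual k E)) := by
  refine ⟨⟨sumConn nabla, isConn_sumConn nabla hn, fun a => ?_, isHorizontal_fst nabla⟩⟩
  change IsHorizontal _ _ (DefoSh.dualAct k E (a : DualNumber k) : E ⊞ E ⟶ E ⊞ E)
  rw [DefoSh.dualAct_hom]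
  exact isHorizontal_add (isHorizontal_smul δ (isConn_sumConn nabla hn) _ (DefoSh.isHorizontal_id _))
    (isHorizontal_smul δ (isConn_sumConn nabla hn) _
      (DefoSh.isHorizontal_comp (isHorizontal_fst nabla) (isHorizontal_inr nabla)))

end Sum

end Groth.Agent.H9DefoSh
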