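import Groth.Agent.H9DefoSh.Torsor
import Groth.Agent.BlendLib.Basic
import Groth.Agent.S12382

/-!
# First-order deformations and `Ext¹`
-/

set_option linter.style.haveILetI false
set_option backward.isDefEq.respectTransparency false
set_option backward.isDefEq.respectTransparency.types false

universe u

open CategoryTheory CategoryTheory.Limits AlgebraicGeometry Opposite ArtFun ArtFun.Art Abelian

namespace Groth.Agent.H9DefoSh

variable {k : Type u} [Field k] {X : Scheme.{u}} [X.Over (Spec (CommRingCat.of k))] {E : X.Modules}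

theorem eq_zero_of_stalk {M N : X.Modules} (φ : M ⟶ N) (h : ∀ p v, RefHull.stalkMapₗ φ p v = 0) : φ = 0 := by
  refine Scheme.Modules.hom_ext _ _ fun U => ?_
  ext s
  refine TopCat.Presheaf.section_ext (C := AddCommGrpCat.{u}) ⟨N.presheaf, N.isSheaf⟩ U _ _ fun x hx => ?_
  change N.presheaf.germ U x hx (φ.app U s) = N.presheaf.germ U x hx ((0 : M ⟶ N).app U s)
  rw [← RefHull.stalkMapₗ_germ, h, Scheme.Modules.Hom.zero_app]
  exact (map_zero _).symm

theorem exists_iota (D : DefoSh.Defo E (Art.dual k k)) :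
    ∃ ι : E ⟶ D.sheaf, D.π ≫ ι = D.act (DualNumber.eps : DualNumber k) := by
  haveI : Epi D.π := epi_of_stalk_surjective _ D.surj
  let u : D.sheaf ⟶ D.sheaf := D.act (eps k)
  have h0 : kernel.ι D.π ≫ u = 0 := eq_zero_of_stalk _ fun p v => by
    letI := D.stalkMod p
    rw [DefoSh.stalkMapₗ_comp_apply]
    change eps k • RefHull.stalkMapₗ (kernel.ι D.π) p v = 0
    have hv := D.ker_le p (RefHull.stalkMapₗ (kernel.ι D.π) p v) (by
      rw [← DefoSh.stalkMapₗ_comp_apply, kernel.condition, DefoSh.stalkMapₗ_zero_apply])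
    refine Submodule.smul_induction_on hv (fun a ha m _ => ?_) (fun a b ha hb => by rw [smul_add, ha, hb, add_zero])
    rw [← mul_smul, show eps k * a = 0 from ?_, zero_smul]
    rw [Art.mem_maximalIdeal_iff] at ha
    have hz : ∀ z : DualNumber k, z.fst = 0 → DualNumber.eps * z = (0 : DualNumber k) := fun z hz => by
      refine TrivSqZeroExt.ext ?_ ?_
      · simp
      · simp [hz]
    exact hz _ ha
  exact ⟨Abelian.epiDesc D.π u h0, Abelian.comp_epiDesc D.π u h0⟩

theorem flat_of_exact_eps {M : Type u} [AddCommGroup M] [Module (DualNumber k) M]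
    (h : ∀ v : M, (DualNumber.eps : DualNumber k) • v = 0 → ∃ w, v = (DualNumber.eps : DualNumber k) • w) :
    Module.Flat (DualNumber k) M := by
  rw [Module.Flat.iff_rTensor_injective']
  intro I
  rcases eq_or_ne I ⊤ with rfl | htop
  · exact (LinearEquiv.rTensor M Submodule.topEquiv).injective
  have hmax : ∀ z ∈ I, ∃ c, z = c * (DualNumber.eps : DualNumber k) := fun z hz => by
    refine ⟨TrivSqZeroExt.inl z.snd, ?_⟩
    have hz0 : z.fst = 0 := by
      by_contra hne
      exact htop (Ideal.eq_top_of_isUnit_mem _ hz (TrivSqZeroExt.isUnit_iff_isUnit_fst.2 (isUnit_iff_ne_zero.2 hne)))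
    refine TrivSqZeroExt.ext ?_ ?_
    · simp [hz0]
    · simp
  by_cases hε : (DualNumber.eps : DualNumber k) ∈ I
  · have hrep : ∀ t : TensorProduct (DualNumber k) I M, ∃ m, t = (⟨DualNumber.eps, hε⟩ : I) ⊗ₜ m := by
      intro t
      induction t using TensorProduct.induction_on with
      | zero => exact ⟨0, (TensorProduct.tmul_zero _ _).symm⟩
      | tmul a b =>
        obtain ⟨c, hc⟩ := hmax a a.2
        refine ⟨c • b, ?_⟩
        rw [← TensorProduct.smul_tmul]
        exact congrArg (fun z => z ⊗ₜ[DualNumber k] b) (Subtype.ext hc)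
      | add a b ha hb =>
        obtain ⟨m, rfl⟩ := ha
        obtain ⟨n, rfl⟩ := hb
        exact ⟨m + n, (TensorProduct.tmul_add _ _ _).symm⟩
    refine (injective_iff_map_eq_zero _).2 fun t ht => ?_
    obtain ⟨m, rfl⟩ := hrep t
    have hm : (DualNumber.eps : DualNumber k) • m = 0 := by
      have := congrArg (TensorProduct.lid (DualNumber k) M) ht
      simpa using this
    obtain ⟨w, rfl⟩ := h m hm
    rw [← TensorProduct.smul_tmul, show (DualNumber.eps : DualNumber k) • (⟨DualNumber.eps, hε⟩ : I) = 0 from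
      Subtype.ext DualNumber.eps_mul_eps, TensorProduct.zero_tmul]
  · have hI : I = ⊥ := by
      refine (Submodule.eq_bot_iff _).2 fun z hz => ?_
      obtain ⟨c, rfl⟩ := hmax z hz
      by_contra hne
      have hc : c.fst ≠ 0 := fun hc => hne (by
        refine TrivSqZeroExt.ext ?_ ?_
        · simp
        · simp [hc])
      obtain ⟨u, hu⟩ := TrivSqZeroExt.isUnit_iff_isUnit_fst.2 (isUnit_iff_ne_zero.2 hc)
      refine hε ?_
      have := I.mul_mem_left (↑u⁻¹ : DualNumber k) hz
      rwa [← hu, ← mul_assoc, Units.inv_mul, one_mul] at this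
    subst hI
    intro a b _
    exact Subsingleton.elim a b

variable {M : X.Modules} (ι : E ⟶ M) (π : M ⟶ E) (w : ι ≫ π = 0)

/-- The endomorphism by which `ε` acts. -/
noncomputable def nilEnd : End M := π ≫ ι

theorem nilEnd_def : (nilEnd ι π : M ⟶ M) = π ≫ ι := rfl

include w in
theorem eps_sq : nilEnd ι π * nilEnd ι π = 0 := by
  rw [End.mul_def, nilEnd_def, Category.assoc, reassoc_of% w, zero_comp, comp_zero]

/-- The action of the dual numbers on an extension. -/
noncomputable def extAct : DualNumber k →ₐ[k] End M :=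
  DualNumber.lift ⟨(Algebra.ofId k (End M), nilEnd ι π), eps_sq ι π w,
    fun a => (Algebra.commutes a (nilEnd ι π)).symm⟩

theorem extAct_eq (z : DualNumber k) :
    (extAct ι π w z : M ⟶ M) = z.fst • 𝟙 M + z.snd • (π ≫ ι) := by
  change algebraMap k (End M) z.fst + (algebraMap k (End M) z.snd) * nilEnd ι π = _
  rw [Algebra.algebraMap_eq_smul_one, Algebra.algebraMap_eq_smul_one, smul_mul_assoc, one_mul]
  rfl

theorem extAct_eps : (extAct ι π w (DualNumber.eps : DualNumber k) : M ⟶ M) = π ≫ ι := by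
  rw [extAct_eq]
  simp

/-- An extension gives a first-order deformation. -/
theorem exists_defo (hS : (ShortComplex.mk ι π w).ShortExact) :
    ∃ D : DefoSh.Defo E (Art.dual k k), ∃ (h : M = D.sheaf),
      h ▸ π = D.π ∧ D.π ≫ (h ▸ ι) = D.act (DualNumber.eps : DualNumber k) := by
  have hst := fun p => (KFlatLib.shortExact_iff_stalk _).1 hS p
  have hex : ∀ (p : X) (v : M.presheaf.stalk p), RefHull.stalkMapₗ π p v = 0 → ∃ e, RefHull.stalkMapₗ ι p e = v :=
    fun p v hv => (((ShortComplex.ShortExact.moduleCat_exact_iff_function_exact _).1 (hst p).exact) v).1 hv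
  have hinj : ∀ p : X, Function.Injective (RefHull.stalkMapₗ ι p) := fun p =>
    (ModuleCat.mono_iff_injective _).1 (hst p).mono_f
  have hsurj : ∀ p : X, Function.Surjective (RefHull.stalkMapₗ π p) := fun p =>
    (ModuleCat.epi_iff_surjective _).1 (hst p).epi_g
  let act : Art.dual k k →ₐ[k] End M := extAct ι π w
  have hsm : ∀ (p : X) (v : M.presheaf.stalk p),
      (letI := DefoSh.stalkModule M act.toRingHom p; eps k • v) = RefHull.stalkMapₗ ι p (RefHull.stalkMapₗ π p v) :=
    fun p v => by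
      change RefHull.stalkMapₗ (extAct ι π w (DualNumber.eps : DualNumber k) : M ⟶ M) p v = _
      rw [extAct_eps, DefoSh.stalkMapₗ_comp_apply]
  refine ⟨{ sheaf := M
            act := act
            π := π
            act_π := fun a ha => ?_
            surj := hsurj
            ker_le := fun p v hv => ?_
            flat := fun p => ?_ }, rfl, rfl, (extAct_eps ι π w).symm⟩
  · change (extAct ι π w a : M ⟶ M) ≫ π = 0
    rw [extAct_eq, show TrivSqZeroExt.fst (show DualNumber k from a) = 0 from ha, zero_smul, zero_add,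
      Linear.smul_comp, Category.assoc, w, comp_zero, smul_zero]
  · letI := DefoSh.stalkModule M act.toRingHom p
    obtain ⟨e, rfl⟩ := hex p v hv
    obtain ⟨v', rfl⟩ := hsurj p e
    rw [← hsm p v']
    exact Submodule.smul_mem_smul (by rw [Art.mem_maximalIdeal_iff]; rfl) Submodule.mem_top
  · letI : Module (DualNumber k) (M.presheaf.stalk p) := DefoSh.stalkModule M act.toRingHom p
    refine (flat_of_exact_eps (k := k) fun v hv => ?_ : Module.Flat (DualNumber k) (M.presheaf.stalk p))
    have hv' : RefHull.stalkMapₗ ι p (RefHull.stalkMapₗ π p v) = 0 := (hsm p v).symm.trans hv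
    obtain ⟨e, rfl⟩ := hex p v ((hinj p) (hv'.trans (map_zero _).symm))
    obtain ⟨v', rfl⟩ := hsurj p e
    exact ⟨v', (hsm p v').symm⟩

variable [HasExt.{u} X.Modules]

/-- The class of a deformation in `Ext¹`. -/
noncomputable def cls (D : DefoSh.Defo E (Art.dual k k)) : Ext.{u} E E 1 :=
  (shortExact_of_eps D _ (exists_iota D).choose_spec).2.extClass

theorem cls_eq (D : DefoSh.Defo E (Art.dual k k)) (i : E ⟶ D.sheaf)
    (hi : D.π ≫ i = D.act (DualNumber.eps : DualNumber k)) (h0 : i ≫ D.π = 0)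
    (hS : (ShortComplex.mk i D.π h0).ShortExact) : cls D = hS.extClass := by
  haveI : Epi D.π := epi_of_stalk_surjective _ D.surj
  obtain rfl : i = (exists_iota D).choose := (cancel_epi D.π).1 (hi.trans (exists_iota D).choose_spec.symm)
  rfl

theorem iso_of_cls_eq {D D' : DefoSh.Defo E (Art.dual k k)} (h : cls D = cls D') :
    Nonempty (DefoSh.Defo.Iso D D') := by
  obtain ⟨w, hS⟩ := shortExact_of_eps D _ (exists_iota D).choose_spec
  obtain ⟨w', hS'⟩ := shortExact_of_eps D' _ (exists_iota D').choose_spec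
  obtain ⟨g, hg, hg₁, hg₂⟩ := S12382.exists_iso_of_extClass_eq hS hS'
    ((cls_eq D _ (exists_iota D).choose_spec w hS).symm.trans (h.trans (cls_eq D' _ (exists_iota D').choose_spec w' hS')))
  have hε : (D.act (eps k) : D.sheaf ⟶ D.sheaf) ≫ g = g ≫ D'.act (eps k) := by
    rw [show (D.act (eps k) : D.sheaf ⟶ D.sheaf) = D.π ≫ (exists_iota D).choose from (exists_iota D).choose_spec.symm,
      show (D'.act (eps k) : D'.sheaf ⟶ D'.sheaf) = D'.π ≫ (exists_iota D').choose from (exists_iota D').choose_spec.symm,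
      Category.assoc, hg₁, ← Category.assoc, hg₂]
  refine ⟨⟨asIso g, fun a => ?_, hg₂⟩⟩
  have ha : ∀ z : DualNumber k, z = algebraMap k (DualNumber k) z.fst + z.snd • DualNumber.eps := fun z => by
    ext <;> simp [TrivSqZeroExt.algebraMap_eq_inl]
  obtain ⟨r, s, rfl⟩ : ∃ (r s : k), a = algebraMap k (Art.dual k k) r + s • eps k := ⟨_, _, ha a⟩
  let u : D.sheaf ⟶ D.sheaf := D.act (eps k)
  let u' : D'.sheaf ⟶ D'.sheaf := D'.act (eps k)
  rw [map_add, map_smul, AlgHom.commutes, Algebra.algebraMap_eq_smul_one, map_add, map_smul, AlgHom.commutes,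
    Algebra.algebraMap_eq_smul_one]
  change ((r • 𝟙 D.sheaf + s • u : D.sheaf ⟶ D.sheaf)) ≫ g = g ≫ ((r • 𝟙 D'.sheaf + s • u' : D'.sheaf ⟶ D'.sheaf))
  rw [Preadditive.add_comp, Preadditive.comp_add, Linear.smul_comp, Linear.smul_comp, Linear.comp_smul,
    Linear.comp_smul, Category.id_comp, Category.comp_id, show u ≫ g = g ≫ u' from hε]

theorem cls_congr {D D' : DefoSh.Defo E (Art.dual k k)} (e : DefoSh.Defo.Iso D D') : cls D = cls D' := by
  obtain ⟨w, hS⟩ := shortExact_of_eps D _ (exists_iota D).choose_spec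
  obtain ⟨w', hS'⟩ := shortExact_of_eps D' _ (exists_iota D').choose_spec
  haveI : Epi D.π := hS.epi_g
  have hi := (exists_iota D).choose_spec
  have hi' := (exists_iota D').choose_spec
  have h₁ : (exists_iota D).choose ≫ e.iso.hom = (exists_iota D').choose := by
    rw [← cancel_epi D.π, ← Category.assoc]
    refine ((congrArg (fun z => z ≫ e.iso.hom) hi).trans (e.act_hom (eps k))).trans ?_
    refine (congrArg (fun z => e.iso.hom ≫ z) hi'.symm).trans ?_
    rw [← Category.assoc, e.hom_π]
  let f : ShortComplex.mk _ D.π w ⟶ ShortComplex.mk _ D'.π w' :=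
    ShortComplex.homMk (𝟙 E) e.iso.hom (𝟙 E) ((Category.id_comp _).trans h₁.symm) (e.hom_π.trans (Category.comp_id _).symm)
  have hn := ShortComplex.ShortExact.extClass_naturality hS hS' f
  simp only [f, ShortComplex.homMk_τ₁, ShortComplex.homMk_τ₃, Ext.mk₀_id_comp, Ext.comp_mk₀_id] at hn
  rw [cls_eq D _ (exists_iota D).choose_spec w hS, cls_eq D' _ (exists_iota D').choose_spec w' hS', hn]

/-- First-order deformations are the classes in `Ext¹`. -/
theorem firstOrder_equiv_ext :
    ∃ e : DefoSh.FirstOrder k E ≃ Ext.{u} E E 1,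
      e (DefoSh.Defo.trivDual k E).cl = 0 ∧
      ∀ (D : DefoSh.Defo E (Art.dual k k)) (i : E ⟶ D.sheaf)
        (_ : D.π ≫ i = D.act (DualNumber.eps : DualNumber k))
        (h0 : i ≫ D.π = 0) (hS : (ShortComplex.mk i D.π h0).ShortExact),
        e D.cl = hS.extClass := by
  let F : DefoSh.FirstOrder k E → Ext.{u} E E 1 := Quotient.lift cls fun _ _ ⟨e⟩ => cls_congr e
  have hb : Function.Bijective F := by
    constructor
    · rintro ⟨D⟩ ⟨D'⟩ h
      exact Quotient.sound (iso_of_cls_eq h)
    · intro x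
      obtain ⟨M, a, b, z, hS, rfl⟩ := BlendLib.exists_extClass_eq x
      obtain ⟨D, rfl, hπ, hι⟩ := exists_defo (k := k) a b z hS
      obtain rfl : b = D.π := hπ
      exact ⟨D.cl, cls_eq D a hι z hS⟩
  refine ⟨Equiv.ofBijective F hb, ?_, fun D i hi h0 hS => cls_eq D i hi h0 hS⟩
  let T := DefoSh.Defo.trivDual k E
  have hi : T.π ≫ (biprod.inr : E ⟶ E ⊞ E) = T.act (DualNumber.eps : DualNumber k) :=
    (DefoSh.dualAct_eps E).symm
  obtain ⟨h0, hS⟩ := shortExact_of_eps T _ hi
  change cls T = 0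
  rw [cls_eq T _ hi h0 hS]
  have h := (Ext.mk₀ (biprod.inl : E ⟶ E ⊞ E)).comp ((Ext.mk₀ T.π).comp hS.extClass (zero_add 1)) (zero_add 1)
  calc hS.extClass = (Ext.mk₀ (biprod.inl : E ⟶ E ⊞ E)).comp ((Ext.mk₀ T.π).comp hS.extClass (zero_add 1)) (zero_add 1) := by
        rw [Ext.mk₀_comp_mk₀_assoc]
        change hS.extClass = (Ext.mk₀ ((biprod.inl : E ⟶ E ⊞ E) ≫ biprod.fst)).comp hS.extClass (zero_add 1)
        rw [biprod.inl_fst, Ext.mk₀_id_comp]
    _ = 0 := by rw [show (Ext.mk₀ T.π).comp hS.extClass (zero_add 1) = 0 from hS.comp_extClass, Ext.comp_zero]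

end Groth.Agent.H9DefoSh
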